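import Mathlib
import Cfsg.Prelude.Def_LocalStructure

set_option autoImplicit false

/-!
Statements of two self-contained packages used for S2863 (elements of `L ∈ 𝔏_G(Y_M)` that are not
`p`-elements act fixed-point-freely on `O_p(L)/C_{Y_M}(L)`).
-/

namespace Cfsg.Agent.Lib.Helper48.FrakL

/-- The upper unitriangular element `[[1, t], [0, 1]]` of `SL₂(F)`. -/
def xe {F : Type*} [Field F] (t : F) : Matrix.SpecialLinearGroup (Fin 2) F :=
  ⟨!![1, t; 0, 1], by simp [Matrix.det_fin_two_of]⟩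

/-- The lower unitriangular element `[[1, 0], [t, 1]]` of `SL₂(F)`. -/
def ye {F : Type*} [Field F] (t : F) : Matrix.SpecialLinearGroup (Fin 2) F :=
  ⟨!![1, 0; t, 1], by simp [Matrix.det_fin_two_of]⟩

/-- Package A: a quadratic `SL₂(F)`-module `V = C_V(U⁺) × C_V(U⁻)` with `[V, U^±] ≤ C_V(U^±)` and
`C_V(U⁺) ∩ C_V(U⁻) = 1`: every element of trace `≠ 2` acts fixed-point-freely. -/
def SL2QuadFpf.{u, v} : Prop :=
  ∀ {F : Type u} [Field F] {V : Type v} [CommGroup V]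
    (ρ : Matrix.SpecialLinearGroup (Fin 2) F →* MulAut V),
    (∀ v : V, (∀ t, ρ (xe t) v = v) → (∀ t, ρ (ye t) v = v) → v = 1) →
    (∀ v : V, ∃ v1 v2 : V, v = v1 * v2 ∧ (∀ t, ρ (xe t) v1 = v1) ∧ (∀ t, ρ (ye t) v2 = v2)) →
    (∀ (t t' : F) (v : V), ρ (xe t') (ρ (xe t) v * v⁻¹) = ρ (xe t) v * v⁻¹) →
    (∀ (t t' : F) (v : V), ρ (ye t') (ρ (ye t) v * v⁻¹) = ρ (ye t) v * v⁻¹) →
    ((2 : F) ≠ 0 → ∀ v : V, v * v = 1 → v = 1) →
    ∀ (g : Matrix.SpecialLinearGroup (Fin 2) F),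
      (g : Matrix (Fin 2) (Fin 2) F) 0 0 + (g : Matrix (Fin 2) (Fin 2) F) 1 1 ≠ 2 →
      ∀ v : V, ρ g v = v → v = 1

/-- Package B: the facts about the Suzuki groups `Sz(q)`, `q = 2^(2m+1) ≥ 8`, needed for an
elementary abelian subgroup `E` of order `q` (the centre of a Sylow 2-subgroup): `E` is a TI
subgroup, products of involutions from different conjugates of `E` have odd order, and every
nontrivial element of odd order is normalized but not centralized by an involution from a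
conjugate of `E`. -/
def SzFacts : Prop :=
  ∀ {F : Type} [Field F] [Fintype F] {m : ℕ}, 1 ≤ m → Fintype.card F = 2 ^ (2 * m + 1) →
    ∀ E : Subgroup ↥(Cfsg.Lie.Sz F (2 ^ (m + 1))), (∀ e ∈ E, e * e = 1) →
      Nat.card ↥E = 2 ^ (2 * m + 1) →
      (∀ g : ↥(Cfsg.Lie.Sz F (2 ^ (m + 1))), (∃ e ∈ E, e ≠ 1 ∧ g * e * g⁻¹ ∈ E) →
        ∀ e ∈ E, g * e * g⁻¹ ∈ E) ∧
      (∀ g : ↥(Cfsg.Lie.Sz F (2 ^ (m + 1))), (¬ ∀ e ∈ E, g * e * g⁻¹ ∈ E) →
        ∀ y ∈ E, y ≠ 1 → ∀ s ∈ E, s ≠ 1 → Odd (orderOf (y * (g * s * g⁻¹)))) ∧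
      (∀ h : ↥(Cfsg.Lie.Sz F (2 ^ (m + 1))), h ≠ 1 → Odd (orderOf h) →
        ∃ t ∈ E, t ≠ 1 ∧ ∃ g : ↥(Cfsg.Lie.Sz F (2 ^ (m + 1))),
          (g * t * g⁻¹) * h * (g * t * g⁻¹)⁻¹ ∈ Subgroup.zpowers h ∧
          (g * t * g⁻¹) * h ≠ h * (g * t * g⁻¹))

/-- Package C1: a `p`-subgroup of `SL₂(F)`, `F` finite of characteristic `p`, is conjugate into
the upper unitriangular group. -/
def SL2PGroupConj.{u} : Prop :=
  ∀ {F : Type u} [Field F] [Finite F] {p : ℕ} [Fact p.Prime] [CharP F p]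
    (P : Subgroup (Matrix.SpecialLinearGroup (Fin 2) F)), IsPGroup p ↥P →
    ∃ k : Matrix.SpecialLinearGroup (Fin 2) F, ∀ g ∈ P, ∃ t : F, k * g * k⁻¹ = xe t

/-- Package C2: an element of trace 2 of `SL₂(F)`, `F` of characteristic `p`, has `g ^ p = 1`. -/
def SL2TraceTwo.{u} : Prop :=
  ∀ {F : Type u} [Field F] {p : ℕ} [Fact p.Prime] [CharP F p]
    (g : Matrix.SpecialLinearGroup (Fin 2) F),
    (g : Matrix (Fin 2) (Fin 2) F) 0 0 + (g : Matrix (Fin 2) (Fin 2) F) 1 1 = 2 → g ^ p = 1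

end Cfsg.Agent.Lib.Helper48.FrakL
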