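import Mathlib
import Cfsg.Agent.Lib.Helper48.KS12.Sigma

set_option autoImplicit false

/-!
General reduction for S2863, inside an abstract finite group `X` (the group `L` of the statement):
`Y` an elementary abelian `p`-subgroup, `A = O_p(X)`.
-/

namespace Cfsg.Agent.Lib.Helper48.FrakL

open Subgroup

variable {X : Type*} [Group X]

/-- The conjugate `g Y g⁻¹`. -/
def Yc (Y : Subgroup X) (g : X) : Subgroup X := Y.map (MulAut.conj g).toMonoidHom

theorem mem_Yc {Y : Subgroup X} {g x : X} : x ∈ Yc Y g ↔ ∃ y ∈ Y, g * y * g⁻¹ = x := by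
  unfold Yc
  rw [Subgroup.mem_map]
  rfl

theorem conj_mem_Yc {Y : Subgroup X} (g : X) {y : X} (hy : y ∈ Y) : g * y * g⁻¹ ∈ Yc Y g :=
  mem_Yc.mpr ⟨y, hy, rfl⟩

theorem Yc_one (Y : Subgroup X) : Yc Y 1 = Y := by
  ext x
  rw [mem_Yc]
  constructor
  · rintro ⟨y, hy, rfl⟩
    simpa using hy
  · intro hx
    exact ⟨x, hx, by simp⟩

theorem mem_Yc_iff {Y : Subgroup X} {g x : X} : x ∈ Yc Y g ↔ g⁻¹ * x * g ∈ Y := by
  rw [mem_Yc]
  constructor
  · rintro ⟨y, hy, rfl⟩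
    have : g⁻¹ * (g * y * g⁻¹) * g = y := by group
    rwa [this]
  · intro h
    exact ⟨_, h, by group⟩

theorem conj_mem_Yc_mul {Y : Subgroup X} (l : X) {g x : X} (hx : x ∈ Yc Y g) :
    l * x * l⁻¹ ∈ Yc Y (l * g) := by
  obtain ⟨y, hy, rfl⟩ := mem_Yc.mp hx
  exact mem_Yc.mpr ⟨y, hy, by group⟩

/-- The hypotheses on `(X, Y, A)`. -/
structure Data (p : ℕ) (Y A : Subgroup X) : Prop where
  comm : ∀ a ∈ Y, ∀ b ∈ Y, a * b = b * a
  exp : ∀ a ∈ Y, a ^ p = 1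
  pgroup : IsPGroup p ↥A
  max : ∀ N : Subgroup X, N.Normal → IsPGroup p ↥N → N ≤ A
  closure : A = Subgroup.normalClosure ((Y ⊓ A : Subgroup X) : Set X)
  norm : A ≤ normalizer (Y : Set X)
  gen : Subgroup.normalClosure (Y : Set X) = ⊤
  bne : normalizer (Y : Set X) ≠ ⊤
  bmax : ∀ K : Subgroup X, Y ≤ K → K ≠ ⊤ → K ≤ normalizer (Y : Set X)

/-- The case-specific "Sylow" hypothesis. -/
def HSyl (Y A : Subgroup X) : Prop :=
  ∀ g : X, (∀ y ∈ Y, g * y * g⁻¹ ∈ normalizer (Y : Set X)) →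
    (∀ y ∈ Y, g⁻¹ * y * g ∈ normalizer (Y : Set X)) → ∀ y ∈ Y, g * y * g⁻¹ ∈ Y ⊔ A

theorem mem_normalizer_of_conj_mem [Finite X] {H : Subgroup X} {g : X}
    (h : ∀ x ∈ H, g * x * g⁻¹ ∈ H) : g ∈ normalizer (H : Set X) := by
  rw [mem_normalizer_iff]
  intro x
  refine ⟨h x, fun hx => ?_⟩
  let f : ↥H → ↥H := fun y => ⟨g * y * g⁻¹, h y y.2⟩
  have hf : Function.Injective f := by
    intro a b hab
    have := congrArg Subtype.val hab
    simp only [f] at this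
    apply Subtype.ext
    have h2 : g⁻¹ * (g * (a : X) * g⁻¹) * g = g⁻¹ * (g * (b : X) * g⁻¹) * g := by rw [this]
    have e1 : g⁻¹ * (g * (a : X) * g⁻¹) * g = a := by group
    have e2 : g⁻¹ * (g * (b : X) * g⁻¹) * g = b := by group
    rw [e1, e2] at h2
    exact h2
  obtain ⟨y, hy⟩ := (Finite.injective_iff_surjective.mp hf) ⟨g * x * g⁻¹, hx⟩
  have := congrArg Subtype.val hy
  simp only [f] at this
  have h2 : g⁻¹ * (g * (y : X) * g⁻¹) * g = g⁻¹ * (g * x * g⁻¹) * g := by rw [this]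
  have e1 : g⁻¹ * (g * (y : X) * g⁻¹) * g = y := by group
  have e2 : g⁻¹ * (g * x * g⁻¹) * g = x := by group
  rw [e1, e2] at h2
  rw [← h2]
  exact y.2

section General

variable {p : ℕ} [Fact p.Prime] {Y A : Subgroup X} [hAn : A.Normal]

theorem Data.isPGroup_Y (d : Data p Y A) : IsPGroup p ↥Y := by
  intro y
  refine ⟨1, ?_⟩
  apply Subtype.ext
  simpa using d.exp y y.2

theorem Data.conj_mem_of_mem_A (d : Data p Y A) {g a y : X} (ha : a ∈ A) (hy : y ∈ Yc Y g) :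
    a * y * a⁻¹ ∈ Yc Y g := by
  obtain ⟨y0, hy0, rfl⟩ := mem_Yc.mp hy
  have ha' : g⁻¹ * a * g ∈ A := by
    have := hAn.conj_mem a ha g⁻¹
    simpa using this
  have h1 := (mem_normalizer_iff.mp (d.norm ha') y0).mp hy0
  exact mem_Yc.mpr ⟨_, h1, by group⟩

theorem Data.comm_mem (d : Data p Y A) {g y a : X} (hy : y ∈ Yc Y g) (ha : a ∈ A) :
    y * a * y⁻¹ * a⁻¹ ∈ Yc Y g ⊓ A := by
  refine Subgroup.mem_inf.mpr ⟨?_, ?_⟩
  · have h1 : a * y⁻¹ * a⁻¹ ∈ Yc Y g := d.conj_mem_of_mem_A ha (inv_mem hy)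
    have : y * a * y⁻¹ * a⁻¹ = y * (a * y⁻¹ * a⁻¹) := by group
    rw [this]
    exact mul_mem hy h1
  · exact mul_mem (hAn.conj_mem a ha y) (inv_mem ha)

omit [Fact p.Prime] hAn in
theorem Data.Yc_comm (d : Data p Y A) (g : X) :
    ∀ a ∈ Yc Y g, ∀ b ∈ Yc Y g, a * b = b * a := by
  intro a ha b hb
  obtain ⟨a0, ha0, rfl⟩ := mem_Yc.mp ha
  obtain ⟨b0, hb0, rfl⟩ := mem_Yc.mp hb
  have := d.comm a0 ha0 b0 hb0
  calc g * a0 * g⁻¹ * (g * b0 * g⁻¹) = g * (a0 * b0) * g⁻¹ := by group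
    _ = g * (b0 * a0) * g⁻¹ := by rw [this]
    _ = g * b0 * g⁻¹ * (g * a0 * g⁻¹) := by group

omit [Fact p.Prime] hAn in
theorem Data.Yc_exp (d : Data p Y A) (g : X) : ∀ a ∈ Yc Y g, a ^ p = 1 := by
  intro a ha
  obtain ⟨a0, ha0, rfl⟩ := mem_Yc.mp ha
  rw [conj_pow, d.exp a0 ha0]
  group

theorem Data.not_le (d : Data p Y A) : ¬ Y ≤ A := by
  intro h
  have h1 : Subgroup.normalClosure (Y : Set X) ≤ A := normalClosure_le_normal h
  rw [d.gen] at h1
  apply d.bne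
  rw [eq_top_iff]
  exact h1.trans d.norm

theorem Data.normalizer_sup_le (d : Data p Y A) :
    normalizer ((Y ⊔ A : Subgroup X) : Set X) ≤ normalizer (Y : Set X) := by
  apply d.bmax
  · exact le_sup_left.trans le_normalizer
  · intro htop
    have hn : (Y ⊔ A).Normal := normalizer_eq_top_iff.mp htop
    have hp : IsPGroup p ↥(Y ⊔ A) := IsPGroup.to_sup_of_normal_right d.isPGroup_Y d.pgroup
    exact d.not_le (le_sup_left.trans (d.max _ hn hp))

theorem Data.mem_B_of_conj_mem [Finite X] (d : Data p Y A) {g : X}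
    (h : ∀ y ∈ Y, g * y * g⁻¹ ∈ Y ⊔ A) : g ∈ normalizer (Y : Set X) := by
  apply d.normalizer_sup_le
  apply mem_normalizer_of_conj_mem
  have h1 : (Y ⊔ A).map (MulAut.conj g).toMonoidHom ≤ Y ⊔ A := by
    rw [Subgroup.map_sup]
    apply sup_le
    · rintro _ ⟨y, hy, rfl⟩
      exact h y hy
    · rintro _ ⟨a, ha, rfl⟩
      exact le_sup_right (α := Subgroup X) (hAn.conj_mem a ha g)
  intro x hx
  exact h1 ⟨x, hx, rfl⟩

theorem Data.exists_gen (d : Data p Y A) : ∃ g : X, Y ⊔ Yc Y g = ⊤ := by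
  by_contra hcon
  push_neg at hcon
  apply d.bne
  rw [eq_top_iff, ← d.gen]
  unfold Subgroup.normalClosure
  rw [closure_le]
  intro x hx
  rw [Group.mem_conjugatesOfSet_iff] at hx
  obtain ⟨y, hy, hc⟩ := hx
  obtain ⟨c, rfl⟩ := isConj_iff.mp hc
  have h1 : Y ⊔ Yc Y c ≤ normalizer (Y : Set X) := d.bmax _ le_sup_left (hcon c)
  exact h1 (le_sup_right (α := Subgroup X) (conj_mem_Yc c hy))

theorem Data.sup_eq_top [Finite X] (d : Data p Y A) (hs : HSyl Y A) {g : X}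
    (hg : g ∉ normalizer (Y : Set X)) : Y ⊔ Yc Y g = ⊤ := by
  by_contra hne
  have h1 : Y ⊔ Yc Y g ≤ normalizer (Y : Set X) := d.bmax _ le_sup_left hne
  have hne' : Y ⊔ Yc Y g⁻¹ ≠ ⊤ := by
    intro htop
    apply hne
    rw [eq_top_iff]
    intro x _
    have hx : g⁻¹ * x * g ∈ Y ⊔ Yc Y g⁻¹ := by rw [htop]; exact mem_top _
    have h2 : (Y ⊔ Yc Y g⁻¹).map (MulAut.conj g).toMonoidHom ≤ Y ⊔ Yc Y g := by
      rw [Subgroup.map_sup]
      apply sup_le
      · rintro _ ⟨y, hy, rfl⟩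
        exact le_sup_right (α := Subgroup X) (conj_mem_Yc g hy)
      · rintro _ ⟨y, hy, rfl⟩
        obtain ⟨y0, hy0, rfl⟩ := mem_Yc.mp hy
        apply le_sup_left (α := Subgroup X)
        simp only [MulEquiv.coe_toMonoidHom, MulAut.conj_apply]
        have : g * (g⁻¹ * y0 * g⁻¹⁻¹) * g⁻¹ = y0 := by group
        rw [this]
        exact hy0
    have h3 := h2 ⟨g⁻¹ * x * g, hx, rfl⟩
    simp only [MulEquiv.coe_toMonoidHom, MulAut.conj_apply] at h3
    have : g * (g⁻¹ * x * g) * g⁻¹ = x := by group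
    rwa [this] at h3
  have h1' : Y ⊔ Yc Y g⁻¹ ≤ normalizer (Y : Set X) := d.bmax _ le_sup_left hne'
  apply hg
  apply d.mem_B_of_conj_mem
  apply hs g
  · intro y hy
    exact h1 (le_sup_right (α := Subgroup X) (conj_mem_Yc g hy))
  · intro y hy
    have := h1' (le_sup_right (α := Subgroup X) (conj_mem_Yc g⁻¹ hy))
    simpa using this

theorem Data.exists_not_mem (d : Data p Y A) : ∃ g : X, g ∉ normalizer (Y : Set X) := by
  by_contra hcon
  push_neg at hcon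
  exact d.bne (eq_top_iff.mpr fun x _ => hcon x)

theorem Data.inf_le_center (d : Data p Y A) {g : X} (h : Y ⊔ Yc Y g = ⊤) {x : X} (hx : x ∈ Y)
    (hx' : x ∈ Yc Y g) : x ∈ center X := by
  have h1 : Y ⊔ Yc Y g ≤ centralizer ({x} : Set X) := by
    apply sup_le
    · intro y hy
      rw [mem_centralizer_iff]
      intro z hz
      rw [Set.mem_singleton_iff] at hz
      subst hz
      exact d.comm z hx y hy
    · intro y hy
      rw [mem_centralizer_iff]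
      intro z hz
      rw [Set.mem_singleton_iff] at hz
      subst hz
      exact d.Yc_comm g z hx' y hy
  rw [h] at h1
  rw [mem_center_iff]
  intro z
  have := mem_centralizer_iff.mp (h1 (mem_top z)) x rfl
  exact this.symm

theorem Data.A_le_sup (d : Data p Y A) {g : X} (h : Y ⊔ Yc Y g = ⊤) :
    A ≤ (Y ⊓ A) ⊔ (Yc Y g ⊓ A) := by
  have hY : Y ≤ normalizer (((Y ⊓ A) ⊔ (Yc Y g ⊓ A) : Subgroup X) : Set X) := by
    intro y hy
    rw [mem_normalizer_iff]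
    have hfwd : ∀ y ∈ Y, ∀ x ∈ (Y ⊓ A) ⊔ (Yc Y g ⊓ A), y * x * y⁻¹ ∈ (Y ⊓ A) ⊔ (Yc Y g ⊓ A) := by
      intro y hy x hx
      have h1 : ((Y ⊓ A) ⊔ (Yc Y g ⊓ A)).map (MulAut.conj y).toMonoidHom ≤
          (Y ⊓ A) ⊔ (Yc Y g ⊓ A) := by
        rw [Subgroup.map_sup]
        apply sup_le
        · rintro _ ⟨a, ha, rfl⟩
          apply le_sup_left (α := Subgroup X)
          simp only [MulEquiv.coe_toMonoidHom, MulAut.conj_apply]
          exact Subgroup.mem_inf.mpr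
            ⟨mul_mem (mul_mem hy (Subgroup.mem_inf.mp ha).1) (inv_mem hy),
              hAn.conj_mem a (Subgroup.mem_inf.mp ha).2 y⟩
        · rintro _ ⟨a, ha, rfl⟩
          simp only [MulEquiv.coe_toMonoidHom, MulAut.conj_apply]
          have h2 : y * a * y⁻¹ * a⁻¹ ∈ Y ⊓ A := by
            have := d.comm_mem (g := 1) (by rw [Yc_one]; exact hy) ha.2
            rwa [Yc_one] at this
          have : y * a * y⁻¹ = (y * a * y⁻¹ * a⁻¹) * a := by group
          rw [this]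
          exact mul_mem (le_sup_left (α := Subgroup X) h2) (le_sup_right (α := Subgroup X) ha)
      exact h1 ⟨x, hx, rfl⟩
    intro x
    refine ⟨hfwd y hy x, fun hx => ?_⟩
    have := hfwd y⁻¹ (inv_mem hy) _ hx
    have e : y⁻¹ * (y * x * y⁻¹) * y⁻¹⁻¹ = x := by group
    rwa [e] at this
  have hY' : Yc Y g ≤ normalizer (((Y ⊓ A) ⊔ (Yc Y g ⊓ A) : Subgroup X) : Set X) := by
    intro y hy
    rw [mem_normalizer_iff]
    have hfwd : ∀ y ∈ Yc Y g, ∀ x ∈ (Y ⊓ A) ⊔ (Yc Y g ⊓ A),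
        y * x * y⁻¹ ∈ (Y ⊓ A) ⊔ (Yc Y g ⊓ A) := by
      intro y hy x hx
      have h1 : ((Y ⊓ A) ⊔ (Yc Y g ⊓ A)).map (MulAut.conj y).toMonoidHom ≤
          (Y ⊓ A) ⊔ (Yc Y g ⊓ A) := by
        rw [Subgroup.map_sup]
        apply sup_le
        · rintro _ ⟨a, ha, rfl⟩
          simp only [MulEquiv.coe_toMonoidHom, MulAut.conj_apply]
          have h2 : y * a * y⁻¹ * a⁻¹ ∈ Yc Y g ⊓ A := d.comm_mem hy ha.2
          have : y * a * y⁻¹ = (y * a * y⁻¹ * a⁻¹) * a := by group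
          rw [this]
          exact mul_mem (le_sup_right (α := Subgroup X) h2) (le_sup_left (α := Subgroup X) ha)
        · rintro _ ⟨a, ha, rfl⟩
          apply le_sup_right (α := Subgroup X)
          simp only [MulEquiv.coe_toMonoidHom, MulAut.conj_apply]
          exact Subgroup.mem_inf.mpr
            ⟨mul_mem (mul_mem hy (Subgroup.mem_inf.mp ha).1) (inv_mem hy),
              hAn.conj_mem a (Subgroup.mem_inf.mp ha).2 y⟩
      exact h1 ⟨x, hx, rfl⟩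
    intro x
    refine ⟨hfwd y hy x, fun hx => ?_⟩
    have := hfwd y⁻¹ (inv_mem hy) _ hx
    have e : y⁻¹ * (y * x * y⁻¹) * y⁻¹⁻¹ = x := by group
    rwa [e] at this
  have hN : normalizer (((Y ⊓ A) ⊔ (Yc Y g ⊓ A) : Subgroup X) : Set X) = ⊤ := by
    rw [eq_top_iff, ← h]
    exact sup_le hY hY'
  have hn : ((Y ⊓ A) ⊔ (Yc Y g ⊓ A)).Normal := normalizer_eq_top_iff.mp hN
  calc A = Subgroup.normalClosure ((Y ⊓ A : Subgroup X) : Set X) := d.closure
    _ ≤ (Y ⊓ A) ⊔ (Yc Y g ⊓ A) := normalClosure_le_normal (le_sup_left (α := Subgroup X))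

end General

/-- The conclusion of S2863 inside `X`: elements that are not `p`-elements act without
fixed points on `A / (Y ∩ Z(X))`. -/
def Concl (p : ℕ) (Y A : Subgroup X) : Prop :=
  ∀ h : X, (¬ ∃ k : ℕ, orderOf h = p ^ k) → ∀ a ∈ A,
    h * a * h⁻¹ * a⁻¹ ∈ Y ⊓ center X → a ∈ Y ⊓ center X

end Cfsg.Agent.Lib.Helper48.FrakL
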