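import Mathlib
import Cfsg.Agent.Lib.Helper48.FrakL.Core

set_option autoImplicit false

/-!
The module `V = A / (Y ∩ Z(X))` with the conjugation action of `X`, for S2863.
-/

namespace Cfsg.Agent.Lib.Helper48.FrakL

open Subgroup

variable {X : Type*} [Group X]

/-- `C = Y ∩ Z(X)`. -/
def Cn (Y : Subgroup X) : Subgroup X := Y ⊓ center X

theorem mem_Cn {Y : Subgroup X} {c : X} : c ∈ Cn Y ↔ c ∈ Y ∧ c ∈ center X := Subgroup.mem_inf

theorem Cn_conj {Y : Subgroup X} {c : X} (hc : c ∈ Cn Y) (g : X) : g * c * g⁻¹ = c := by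
  have hz := (mem_Cn.mp hc).2
  rw [mem_center_iff] at hz
  rw [hz g]
  group

instance Cn_normal (Y : Subgroup X) : (Cn Y).Normal := ⟨by
  intro c hc g
  rw [Cn_conj hc g]
  exact hc⟩

variable (Y A : Subgroup X) [hAn : A.Normal]

/-- The module `A / C`. -/
abbrev V : Type _ := ↥A ⧸ (Cn Y).subgroupOf A

theorem map_conjNormal_Cn (g : X) :
    ((Cn Y).subgroupOf A).map ((MulAut.conjNormal g : MulAut ↥A) : ↥A ≃* ↥A).toMonoidHom =
      (Cn Y).subgroupOf A := by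
  ext a
  rw [Subgroup.mem_map]
  constructor
  · rintro ⟨b, hb, rfl⟩
    rw [mem_subgroupOf] at hb ⊢
    have : ((MulAut.conjNormal g : MulAut ↥A) b : X) = g * b * g⁻¹ := MulAut.conjNormal_apply g b
    change ((MulAut.conjNormal g : MulAut ↥A) b : X) ∈ Cn Y
    rw [this, Cn_conj hb g]
    exact hb
  · intro ha
    refine ⟨a, ha, ?_⟩
    rw [mem_subgroupOf] at ha
    apply Subtype.ext
    change ((MulAut.conjNormal g : MulAut ↥A) a : X) = a
    rw [MulAut.conjNormal_apply, Cn_conj ha g]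

/-- The conjugation action of `X` on `V`. -/
noncomputable def rhoX : X →* MulAut (V Y A) where
  toFun g := QuotientGroup.congr _ _ (MulAut.conjNormal g) (map_conjNormal_Cn Y A g)
  map_one' := by
    ext v
    induction v using QuotientGroup.induction_on with
    | H a =>
      have := QuotientGroup.congr_mk ((Cn Y).subgroupOf A) ((Cn Y).subgroupOf A)
        (MulAut.conjNormal (1 : X)) (map_conjNormal_Cn Y A 1) a
      erw [this]
      simp
  map_mul' g h := by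
    ext v
    induction v using QuotientGroup.induction_on with
    | H a =>
      erw [QuotientGroup.congr_mk]
      rw [map_mul]
      change _ = (QuotientGroup.congr ((Cn Y).subgroupOf A) ((Cn Y).subgroupOf A)
        (MulAut.conjNormal g) (map_conjNormal_Cn Y A g))
        ((QuotientGroup.congr ((Cn Y).subgroupOf A) ((Cn Y).subgroupOf A)
          (MulAut.conjNormal h) (map_conjNormal_Cn Y A h)) (QuotientGroup.mk a))
      erw [QuotientGroup.congr_mk]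
      rfl

/-- The class of `a ∈ A` in `V`. -/
def mkV (a : X) (ha : a ∈ A) : V Y A := QuotientGroup.mk ⟨a, ha⟩

variable {Y A}

theorem mkV_surj (v : V Y A) : ∃ a, ∃ ha : a ∈ A, mkV Y A a ha = v := by
  induction v using QuotientGroup.induction_on with
  | H a => exact ⟨a.1, a.2, rfl⟩

theorem mkV_eq_iff {a b : X} {ha : a ∈ A} {hb : b ∈ A} :
    mkV Y A a ha = mkV Y A b hb ↔ a⁻¹ * b ∈ Cn Y := by
  unfold mkV
  rw [QuotientGroup.eq, mem_subgroupOf]
  rfl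

theorem mkV_eq_one_iff {a : X} {ha : a ∈ A} : mkV Y A a ha = 1 ↔ a ∈ Cn Y := by
  unfold mkV
  rw [QuotientGroup.eq_one_iff, mem_subgroupOf]

theorem mkV_mul {a b : X} (ha : a ∈ A) (hb : b ∈ A) :
    mkV Y A a ha * mkV Y A b hb = mkV Y A (a * b) (mul_mem ha hb) := rfl

theorem mkV_inv {a : X} (ha : a ∈ A) : (mkV Y A a ha)⁻¹ = mkV Y A a⁻¹ (inv_mem ha) := rfl

theorem rhoX_mkV (g : X) {a : X} (ha : a ∈ A) :
    rhoX Y A g (mkV Y A a ha) = mkV Y A (g * a * g⁻¹) (hAn.conj_mem a ha g) := by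
  unfold mkV rhoX
  simp only [MonoidHom.coe_mk, OneHom.coe_mk]
  erw [QuotientGroup.congr_mk]
  rfl

theorem rhoX_mul_apply (g h : X) (v : V Y A) : rhoX Y A (g * h) v = rhoX Y A g (rhoX Y A h v) := by
  rw [map_mul]
  rfl

theorem rhoX_inv_apply (g : X) (v : V Y A) : rhoX Y A g⁻¹ (rhoX Y A g v) = v := by
  rw [← rhoX_mul_apply, inv_mul_cancel, map_one]
  rfl

theorem rhoX_apply_inv (g : X) (v : V Y A) : rhoX Y A g (rhoX Y A g⁻¹ v) = v := by
  rw [← rhoX_mul_apply, mul_inv_cancel, map_one]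
  rfl

variable (Y A)

/-- The image in `V` of `g Y g⁻¹ ∩ A`. -/
def VS (g : X) : Subgroup (V Y A) :=
  ((Yc Y g).subgroupOf A).map (QuotientGroup.mk' ((Cn Y).subgroupOf A))

variable {Y A}

theorem mem_VS {g : X} {v : V Y A} :
    v ∈ VS Y A g ↔ ∃ a, ∃ ha : a ∈ A, a ∈ Yc Y g ∧ mkV Y A a ha = v := by
  unfold VS
  rw [Subgroup.mem_map]
  constructor
  · rintro ⟨a, ha, rfl⟩
    exact ⟨a.1, a.2, mem_subgroupOf.mp ha, rfl⟩
  · rintro ⟨a, ha, hY, rfl⟩
    exact ⟨⟨a, ha⟩, mem_subgroupOf.mpr hY, rfl⟩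

theorem mkV_mem_VS {g a : X} (ha : a ∈ A) (hY : a ∈ Yc Y g) : mkV Y A a ha ∈ VS Y A g :=
  mem_VS.mpr ⟨a, ha, hY, rfl⟩

theorem rhoX_mem_VS (l : X) {g : X} {v : V Y A} (hv : v ∈ VS Y A g) :
    rhoX Y A l v ∈ VS Y A (l * g) := by
  obtain ⟨a, ha, hY, rfl⟩ := mem_VS.mp hv
  rw [rhoX_mkV]
  exact mkV_mem_VS _ (conj_mem_Yc_mul l hY)

/-- The stabilizer of `v` in `X`. -/
def fixSub (v : V Y A) : Subgroup X where
  carrier := {x | rhoX Y A x v = v}
  mul_mem' := by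
    intro a b ha hb
    simp only [Set.mem_setOf_eq] at ha hb ⊢
    rw [rhoX_mul_apply, hb, ha]
  one_mem' := by
    simp only [Set.mem_setOf_eq, map_one]
    rfl
  inv_mem' := by
    intro a ha
    simp only [Set.mem_setOf_eq] at ha ⊢
    conv_lhs => rw [← ha]
    exact rhoX_inv_apply a v

theorem mem_fixSub {v : V Y A} {x : X} : x ∈ fixSub v ↔ rhoX Y A x v = v := Iff.rfl

/-- Induction principle: a subgroup of `V` containing the images of `Y ∩ A` and `g Y g⁻¹ ∩ A`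
is everything. -/
theorem V_ind {p : ℕ} [Fact p.Prime] (d : Data p Y A) {g : X} (hg : Y ⊔ Yc Y g = ⊤)
    (P : Subgroup (V Y A)) (h1 : VS Y A 1 ≤ P) (h2 : VS Y A g ≤ P) : ∀ v : V Y A, v ∈ P := by
  intro v
  obtain ⟨a, ha, rfl⟩ := mkV_surj v
  let W : Subgroup X := (P.comap (QuotientGroup.mk' ((Cn Y).subgroupOf A))).map A.subtype
  have hW : ∀ x, x ∈ W ↔ ∃ hx : x ∈ A, mkV Y A x hx ∈ P := by
    intro x
    constructor
    · rintro ⟨b, hb, rfl⟩
      exact ⟨b.2, hb⟩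
    · rintro ⟨hx, hP⟩
      exact ⟨⟨x, hx⟩, hP, rfl⟩
  have hle : (Y ⊓ A) ⊔ (Yc Y g ⊓ A) ≤ W := by
    apply sup_le
    · intro x hx
      rw [hW]
      have hx' := Subgroup.mem_inf.mp hx
      exact ⟨hx'.2, h1 (mkV_mem_VS hx'.2 (by rw [Yc_one]; exact hx'.1))⟩
    · intro x hx
      rw [hW]
      have hx' := Subgroup.mem_inf.mp hx
      exact ⟨hx'.2, h2 (mkV_mem_VS hx'.2 hx'.1)⟩
  obtain ⟨_, h⟩ := (hW a).mp (hle (d.A_le_sup hg ha))
  exact h

section Facts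

variable {p : ℕ} [Fact p.Prime]

theorem Data.comm_mixed (d : Data p Y A) {g : X} (hg : Y ⊔ Yc Y g = ⊤) {a a' : X}
    (ha : a ∈ Yc Y g) (haA : a ∈ A) (ha' : a' ∈ Y) (ha'A : a' ∈ A) :
    a'⁻¹ * a⁻¹ * a' * a ∈ Cn Y := by
  have h1 : a'⁻¹ * a⁻¹ * a' * a ∈ Y := by
    have h2 : a⁻¹ * a' * a⁻¹⁻¹ ∈ Yc Y 1 :=
      d.conj_mem_of_mem_A (inv_mem haA) (by rw [Yc_one]; exact ha')
    rw [Yc_one] at h2
    have : a'⁻¹ * a⁻¹ * a' * a = a'⁻¹ * (a⁻¹ * a' * a⁻¹⁻¹) := by group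
    rw [this]
    exact mul_mem (inv_mem ha') h2
  have h3 : a'⁻¹ * a⁻¹ * a' * a ∈ Yc Y g := by
    have h2 : a'⁻¹ * a⁻¹ * a'⁻¹⁻¹ ∈ Yc Y g := d.conj_mem_of_mem_A (inv_mem ha'A) (inv_mem ha)
    have : a'⁻¹ * a⁻¹ * a' * a = (a'⁻¹ * a⁻¹ * a'⁻¹⁻¹) * a := by group
    rw [this]
    exact mul_mem h2 ha
  exact mem_Cn.mpr ⟨h1, d.inf_le_center hg h1 h3⟩

theorem Data.V_comm (d : Data p Y A) : ∀ v w : V Y A, v * w = w * v := by
  obtain ⟨g, hg⟩ := d.exists_gen
  -- the two generating subgroups are central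
  have hc1 : ∀ v ∈ VS Y A 1, ∀ w : V Y A, w * v = v * w := by
    intro v hv
    obtain ⟨a', ha'A, ha', rfl⟩ := mem_VS.mp hv
    rw [Yc_one] at ha'
    have hP := V_ind d hg (Subgroup.centralizer ({mkV Y A a' ha'A} : Set (V Y A))) ?_ ?_
    · intro w
      have := Subgroup.mem_centralizer_iff.mp (hP w) _ rfl
      exact this.symm
    · intro w hw
      obtain ⟨b, hbA, hb, rfl⟩ := mem_VS.mp hw
      rw [Yc_one] at hb
      rw [Subgroup.mem_centralizer_iff]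
      intro z hz
      rw [Set.mem_singleton_iff] at hz
      subst hz
      rw [mkV_mul, mkV_mul]
      congr 1
      exact d.comm a' ha' b hb
    · intro w hw
      obtain ⟨b, hbA, hb, rfl⟩ := mem_VS.mp hw
      rw [Subgroup.mem_centralizer_iff]
      intro z hz
      rw [Set.mem_singleton_iff] at hz
      subst hz
      rw [mkV_mul, mkV_mul, mkV_eq_iff]
      have := d.comm_mixed hg hb hbA ha' ha'A
      have e : (a' * b)⁻¹ * (b * a') = (a'⁻¹ * b⁻¹ * a' * b)⁻¹ := by group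
      rw [e]
      exact inv_mem this
  have hc2 : ∀ v ∈ VS Y A g, ∀ w : V Y A, w * v = v * w := by
    intro v hv
    obtain ⟨a, haA, ha, rfl⟩ := mem_VS.mp hv
    have hP := V_ind d hg (Subgroup.centralizer ({mkV Y A a haA} : Set (V Y A))) ?_ ?_
    · intro w
      have := Subgroup.mem_centralizer_iff.mp (hP w) _ rfl
      exact this.symm
    · intro w hw
      rw [Subgroup.mem_centralizer_iff]
      intro z hz
      rw [Set.mem_singleton_iff] at hz
      subst hz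
      exact hc1 w hw _
    · intro w hw
      obtain ⟨b, hbA, hb, rfl⟩ := mem_VS.mp hw
      rw [Subgroup.mem_centralizer_iff]
      intro z hz
      rw [Set.mem_singleton_iff] at hz
      subst hz
      rw [mkV_mul, mkV_mul]
      congr 1
      exact d.Yc_comm g a ha b hb
  intro v w
  have hP := V_ind d hg (Subgroup.center (V Y A)) ?_ ?_
  · have := Subgroup.mem_center_iff.mp (hP w) v
    exact this
  · intro z hz
    rw [Subgroup.mem_center_iff]
    intro u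
    exact hc1 z hz u
  · intro z hz
    rw [Subgroup.mem_center_iff]
    intro u
    exact hc2 z hz u

theorem Data.V_exp (d : Data p Y A) : ∀ v : V Y A, v ^ p = 1 := by
  obtain ⟨g, hg⟩ := d.exists_gen
  let P : Subgroup (V Y A) :=
    { carrier := {v | v ^ p = 1}
      mul_mem' := by
        intro a b ha hb
        simp only [Set.mem_setOf_eq] at ha hb ⊢
        rw [Commute.mul_pow (show Commute a b from d.V_comm a b) p, ha, hb, mul_one]
      one_mem' := by simp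
      inv_mem' := by
        intro a ha
        simp only [Set.mem_setOf_eq] at ha ⊢
        rw [inv_pow, ha, inv_one] }
  have key : ∀ l : X, VS Y A l ≤ P := by
    intro l v hv
    obtain ⟨a, haA, ha, rfl⟩ := mem_VS.mp hv
    change mkV Y A a haA ^ p = 1
    have h1 : mkV Y A a haA ^ p = mkV Y A (a ^ p) (pow_mem haA p) := rfl
    rw [h1, mkV_eq_one_iff, d.Yc_exp l a ha]
    exact one_mem _
  exact V_ind d hg P (key 1) (key g)

theorem Data.rho_comm_mem (d : Data p Y A) {g y : X} (hy : y ∈ Yc Y g) (v : V Y A) :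
    rhoX Y A y v * v⁻¹ ∈ VS Y A g := by
  obtain ⟨a, ha, rfl⟩ := mkV_surj v
  rw [rhoX_mkV, mkV_inv, mkV_mul]
  exact mkV_mem_VS _ (Subgroup.mem_inf.mp (d.comm_mem hy ha)).1

theorem Data.rho_fix (d : Data p Y A) {g y : X} (hy : y ∈ Yc Y g) {v : V Y A}
    (hv : v ∈ VS Y A g) : rhoX Y A y v = v := by
  obtain ⟨a, haA, ha, rfl⟩ := mem_VS.mp hv
  rw [rhoX_mkV]
  congr 1
  rw [d.Yc_comm g y hy a ha]
  group

theorem Data.exists_decomp (d : Data p Y A) {g : X} (hg : Y ⊔ Yc Y g = ⊤) (v : V Y A) :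
    ∃ v1 ∈ VS Y A 1, ∃ v2 ∈ VS Y A g, v = v1 * v2 := by
  haveI : (VS Y A g).Normal := ⟨by
    intro n hn x
    rw [d.V_comm x n, mul_assoc, mul_inv_cancel, mul_one]
    exact hn⟩
  have h := V_ind d hg (VS Y A 1 ⊔ VS Y A g) le_sup_left le_sup_right v
  have h2 : v ∈ ((VS Y A 1 ⊔ VS Y A g : Subgroup (V Y A)) : Set (V Y A)) := h
  rw [Subgroup.mul_normal, Set.mem_mul] at h2
  obtain ⟨v1, hv1, v2, hv2, rfl⟩ := h2
  exact ⟨v1, hv1, v2, hv2, rfl⟩

theorem Data.VS_inf (d : Data p Y A) {g : X} (hg : Y ⊔ Yc Y g = ⊤) {v : V Y A}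
    (h1 : v ∈ VS Y A 1) (h2 : v ∈ VS Y A g) : v = 1 := by
  obtain ⟨a, haA, ha, rfl⟩ := mem_VS.mp h1
  obtain ⟨b, hbA, hb, hab⟩ := mem_VS.mp h2
  rw [Yc_one] at ha
  rw [mkV_eq_iff] at hab
  -- `b⁻¹ * a ∈ C`, so `a ∈ b C ⊆ Yc g`
  have hc := mem_Cn.mp hab
  have hcg : b⁻¹ * a ∈ Yc Y g := by
    rw [mem_Yc_iff]
    have := Cn_conj hab g⁻¹
    rw [inv_inv] at this
    rw [this]
    exact hc.1
  have hag : a ∈ Yc Y g := by
    have := mul_mem hb hcg
    rwa [mul_inv_cancel_left] at this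
  rw [mkV_eq_one_iff]
  exact mem_Cn.mpr ⟨ha, d.inf_le_center hg ha hag⟩

theorem Data.fix_all (d : Data p Y A) {g : X} (hg : Y ⊔ Yc Y g = ⊤) {v : V Y A}
    (h1 : ∀ y ∈ Y, rhoX Y A y v = v) (h2 : ∀ y ∈ Yc Y g, rhoX Y A y v = v) (x : X) :
    rhoX Y A x v = v := by
  have : Y ⊔ Yc Y g ≤ fixSub v := sup_le (fun y hy => h1 y hy) (fun y hy => h2 y hy)
  rw [hg] at this
  exact this (mem_top x)

theorem Data.fix_all_eq_one (d : Data p Y A) {g : X} (hg : Y ⊔ Yc Y g = ⊤) {v : V Y A}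
    (hv : ∀ x : X, rhoX Y A x v = v) : v = 1 := by
  obtain ⟨v1, hv1, v2, hv2, rfl⟩ := d.exists_decomp hg v
  -- both components are fixed by everything
  have hY1 : ∀ y ∈ Y, rhoX Y A y v1 = v1 := fun y hy =>
    d.rho_fix (by rw [Yc_one]; exact hy) hv1
  have hY2 : ∀ y ∈ Yc Y g, rhoX Y A y v2 = v2 := fun y hy => d.rho_fix hy hv2
  have hY12 : ∀ y ∈ Y, rhoX Y A y v2 = v2 := by
    intro y hy
    have := hv y
    rw [map_mul, hY1 y hy] at this
    exact mul_left_cancel this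
  have hY21 : ∀ y ∈ Yc Y g, rhoX Y A y v1 = v1 := by
    intro y hy
    have := hv y
    rw [map_mul, hY2 y hy] at this
    exact mul_right_cancel this
  have hf1 := d.fix_all hg hY1 hY21
  have hf2 := d.fix_all hg hY12 hY2
  have e1 : v1 = 1 := by
    apply d.VS_inf hg hv1
    have := rhoX_mem_VS g hv1
    rwa [mul_one, hf1 g] at this
  have e2 : v2 = 1 := by
    apply d.VS_inf hg _ hv2
    have := rhoX_mem_VS g⁻¹ hv2
    rwa [inv_mul_cancel, hf2 g⁻¹] at this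
  rw [e1, e2, one_mul]

theorem Data.mem_VS_of_fix (d : Data p Y A) {g : X} (hg : Y ⊔ Yc Y g = ⊤) {v : V Y A}
    (hv : ∀ y ∈ Y, rhoX Y A y v = v) : v ∈ VS Y A 1 := by
  obtain ⟨v1, hv1, v2, hv2, rfl⟩ := d.exists_decomp hg v
  have hY1 : ∀ y ∈ Y, rhoX Y A y v1 = v1 := fun y hy =>
    d.rho_fix (by rw [Yc_one]; exact hy) hv1
  have hY2 : ∀ y ∈ Yc Y g, rhoX Y A y v2 = v2 := fun y hy => d.rho_fix hy hv2
  have hY12 : ∀ y ∈ Y, rhoX Y A y v2 = v2 := by
    intro y hy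
    have := hv y hy
    rw [map_mul, hY1 y hy] at this
    exact mul_left_cancel this
  have e2 : v2 = 1 := d.fix_all_eq_one hg (d.fix_all hg hY12 hY2)
  rw [e2, mul_one]
  exact hv1

theorem Data.mem_VS_of_fix' (d : Data p Y A) {g : X} (hg : Y ⊔ Yc Y g = ⊤) (l : X) {v : V Y A}
    (hv : ∀ y ∈ Yc Y l, rhoX Y A y v = v) : v ∈ VS Y A l := by
  have h1 : rhoX Y A l⁻¹ v ∈ VS Y A 1 := by
    apply d.mem_VS_of_fix hg
    intro y hy
    rw [← rhoX_mul_apply]
    have e : y * l⁻¹ = l⁻¹ * (l * y * l⁻¹) := by group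
    rw [e, rhoX_mul_apply, hv _ (conj_mem_Yc l hy)]
  have := rhoX_mem_VS l h1
  rwa [rhoX_apply_inv, mul_one] at this

theorem Data.rhoX_of_mem_A (d : Data p Y A) {a : X} (ha : a ∈ A) (v : V Y A) :
    rhoX Y A a v = v := by
  obtain ⟨b, hb, rfl⟩ := mkV_surj v
  rw [rhoX_mkV]
  have : mkV Y A (a * b * a⁻¹) (hAn.conj_mem b hb a) =
      mkV Y A a ha * mkV Y A b hb * (mkV Y A a ha)⁻¹ := rfl
  rw [this, d.V_comm (mkV Y A a ha) (mkV Y A b hb), mul_assoc, mul_inv_cancel, mul_one]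

theorem Data.rhoX_congr (d : Data p Y A) {x x' : X} (h : x⁻¹ * x' ∈ A) (v : V Y A) :
    rhoX Y A x v = rhoX Y A x' v := by
  have : x' = x * (x⁻¹ * x') := by group
  rw [this, rhoX_mul_apply, d.rhoX_of_mem_A h]

theorem Data.VS_inf' [Finite X] (d : Data p Y A) (hs : HSyl Y A) {g l : X}
    (h : g⁻¹ * l ∉ normalizer (Y : Set X)) {v : V Y A} (h1 : v ∈ VS Y A g) (h2 : v ∈ VS Y A l) :
    v = 1 := by
  have hg := d.sup_eq_top hs h
  have e1 : rhoX Y A g⁻¹ v ∈ VS Y A 1 := by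
    have := rhoX_mem_VS g⁻¹ h1
    rwa [inv_mul_cancel] at this
  have e2 : rhoX Y A g⁻¹ v ∈ VS Y A (g⁻¹ * l) := rhoX_mem_VS g⁻¹ h2
  have e3 := d.VS_inf hg e1 e2
  have : v = rhoX Y A g (rhoX Y A g⁻¹ v) := (rhoX_apply_inv g v).symm
  rw [this, e3, map_one]

/-- The final reduction: fixed-point-freeness on `V` gives the conclusion for `h`. -/
theorem concl_of_fpf {h : X} (hfix : ∀ v : V Y A, rhoX Y A h v = v → v = 1) :
    ∀ a ∈ A, h * a * h⁻¹ * a⁻¹ ∈ Y ⊓ center X → a ∈ Y ⊓ center X := by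
  intro a ha hc
  have h1 : rhoX Y A h (mkV Y A a ha) = mkV Y A a ha := by
    rw [rhoX_mkV, mkV_eq_iff]
    have hc' : h * a * h⁻¹ * a⁻¹ ∈ Cn Y := hc
    have h2 := inv_mem hc'
    have e : (h * a * h⁻¹)⁻¹ * a = a⁻¹ * (h * a * h⁻¹ * a⁻¹)⁻¹ * a⁻¹⁻¹ := by group
    rw [e, Cn_conj h2 a⁻¹]
    exact h2
  have h3 := hfix _ h1
  rw [mkV_eq_one_iff] at h3
  exact h3

end Facts

section More

variable {Y A : Subgroup X} [hAn : A.Normal] {p : ℕ} [Fact p.Prime]

omit hAn [Fact p.Prime] in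
theorem Yc_eq_of_mem_normalizer {b : X} (hb : b ∈ normalizer (Y : Set X)) : Yc Y b = Y := by
  ext x
  rw [mem_Yc_iff]
  have h := mem_normalizer_iff.mp (inv_mem hb) x
  rw [inv_inv] at h
  exact h.symm

omit [Fact p.Prime] in
theorem VS_congr {g g' : X} (h : Yc Y g = Yc Y g') : VS Y A g = VS Y A g' := by
  unfold VS
  rw [h]

/-- The action of `X / A` on `V`. -/
noncomputable def rhoBar (d : Data p Y A) : X ⧸ A →* MulAut (V Y A) :=
  QuotientGroup.lift A (rhoX Y A) (by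
    intro a ha
    ext v
    exact d.rhoX_of_mem_A ha v)

theorem rhoBar_mk (d : Data p Y A) (x : X) : rhoBar d (QuotientGroup.mk x) = rhoX Y A x := rfl

/-- An element with a `p`-power power in `A` is a `p`-element. -/
theorem Data.isPElt_of_pow_mem (d : Data p Y A) {h : X} {k : ℕ} (hk : h ^ (p ^ k) ∈ A) :
    ∃ j : ℕ, orderOf h = p ^ j := by
  obtain ⟨j, hj⟩ := d.pgroup ⟨h ^ (p ^ k), hk⟩
  have h1 : (h ^ (p ^ k)) ^ (p ^ j) = 1 := by
    have := congrArg Subtype.val hj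
    simpa using this
  rw [← pow_mul, ← pow_add] at h1
  have h2 : orderOf h ∣ p ^ (k + j) := orderOf_dvd_of_pow_eq_one h1
  obtain ⟨i, _, hi⟩ := (Nat.dvd_prime_pow (Fact.out : p.Prime)).mp h2
  exact ⟨i, hi⟩

end More

end Cfsg.Agent.Lib.Helper48.FrakL
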