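import Mathlib
import Cfsg.Prelude.Def_LocalStructure
import Cfsg.Agent.Lib.Helper48.FrakL.Core

set_option autoImplicit false

/-!
Statements for S2861 (`Y A / A` is the unique nontrivial elementary abelian normal `p`-subgroup of
`N_L(Y) / A`), inside the abstract group `X` (the group `L`).
-/

namespace Cfsg.Agent.Lib.Helper48.FrakL

open Subgroup

/-- The conclusion of S2861 inside `X`, in terms of the full preimage `W` of a normal elementary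
abelian `p`-subgroup of `N_X(Y) / A`. -/
def ConclN {X : Type*} [Group X] (p : ℕ) (Y A : Subgroup X) : Prop :=
  ∀ W : Subgroup X, A ≤ W → W ≤ normalizer (Y : Set X) →
    (∀ b ∈ normalizer (Y : Set X), ∀ w ∈ W, b * w * b⁻¹ ∈ W) →
    (∀ w ∈ W, w ^ p ∈ A) → (∀ w ∈ W, ∀ w' ∈ W, w * w' * w⁻¹ * w'⁻¹ ∈ A) →
    ¬ W ≤ A → W = Y ⊔ A

/-- Suzuki fact for S2861: the centre `E` of a Sylow 2-subgroup of `Sz(q)` is the only nontrivial
subgroup of exponent 2 normalized by `N(E)`. -/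
def SzNormal : Prop :=
  ∀ {F : Type} [Field F] [Fintype F] {m : ℕ}, 1 ≤ m → Fintype.card F = 2 ^ (2 * m + 1) →
    ∀ E : Subgroup ↥(Cfsg.Lie.Sz F (2 ^ (m + 1))), (∀ e ∈ E, e * e = 1) →
      Nat.card ↥E = 2 ^ (2 * m + 1) →
      ∀ V : Subgroup ↥(Cfsg.Lie.Sz F (2 ^ (m + 1))), V ≠ ⊥ → (∀ v ∈ V, v * v = 1) →
        (∀ n : ↥(Cfsg.Lie.Sz F (2 ^ (m + 1))), (∀ e ∈ E, n * e * n⁻¹ ∈ E) →
          ∀ v ∈ V, n * v * n⁻¹ ∈ V) → V = E

end Cfsg.Agent.Lib.Helper48.FrakL
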