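import Mathlib
import Cfsg.Agent.Lib.Helper48.FrakL.Core2

set_option autoImplicit false

/-!
S2863, dihedral alternative: the image of `Y` in `X / A ≅ D_{2r}` (`r` an odd prime) has order 2.
-/

namespace Cfsg.Agent.Lib.Helper48.FrakL

open Subgroup

theorem card_two_of_dihedral {X : Type*} [Group X] [Finite X] {Y A : Subgroup X} [hAn : A.Normal]
    (d : Data 2 Y A) {r : ℕ} (hr : r.Prime) (hr2 : r ≠ 2) (φ : X ⧸ A ≃* DihedralGroup r) :
    Nat.card ↥(Y.map (QuotientGroup.mk' A)) = 2 := by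
  have hp : IsPGroup 2 ↥(Y.map (QuotientGroup.mk' A)) := d.isPGroup_Y.map _
  obtain ⟨k, hk⟩ := IsPGroup.iff_card.mp hp
  have hQ : Nat.card (X ⧸ A) = 2 * r := by
    rw [Nat.card_congr φ.toEquiv, DihedralGroup.nat_card]
  have hdvd : 2 ^ k ∣ 2 * r := by
    rw [← hk, ← hQ]
    exact Subgroup.card_subgroup_dvd_card _
  have hk1 : k ≠ 0 := by
    rintro rfl
    rw [pow_zero] at hk
    have hbot : Y.map (QuotientGroup.mk' A) = ⊥ := Subgroup.card_eq_one.mp hk
    apply d.not_le
    intro y hy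
    have h1 : QuotientGroup.mk' A y ∈ Y.map (QuotientGroup.mk' A) := Subgroup.mem_map_of_mem _ hy
    rw [hbot, Subgroup.mem_bot] at h1
    have h2 : y ∈ (QuotientGroup.mk' A).ker := h1
    rwa [QuotientGroup.ker_mk'] at h2
  have hk2 : k < 2 := by
    by_contra hge
    push_neg at hge
    have h4 : 2 ^ 2 ∣ 2 * r := (pow_dvd_pow 2 hge).trans hdvd
    have h2r : 2 ∣ r := by
      have : 2 * 2 ∣ 2 * r := by simpa using h4
      exact (Nat.mul_dvd_mul_iff_left (by norm_num)).mp this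
    exact hr2 ((Nat.prime_dvd_prime_iff_eq Nat.prime_two hr).mp h2r).symm
  have : k = 1 := by omega
  rw [hk, this, pow_one]

end Cfsg.Agent.Lib.Helper48.FrakL
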